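import Cfsg.Agent.H98.Extra
import Cfsg.Agent.H98.Burnside

/-! Groups of symplectic type with centre of order equal to the exponent. -/

set_option autoImplicit false
set_option linter.unusedSectionVars false
set_option linter.unusedVariables false

namespace Cfsg.Agent.H98

open scoped MatrixGroups Matrix Kronecker commutatorElement
open Cfsg.Geo

variable {ι : Type} [Fintype ι] [DecidableEq ι] {F : Type*} [Field F]

/-- The second centre commutes with the derived subgroup. -/
theorem commute_of_mem_ucsTwo {G : Type*} [Group G] {z d : G}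
    (hz : z ∈ Subgroup.upperCentralSeries G 2) (hd : d ∈ commutator G) : z * d = d * z := by
  have hz' : ∀ y, z * y * z⁻¹ * y⁻¹ ∈ Subgroup.center G := by
    intro y
    have := Subgroup.mem_upperCentralSeries_succ_iff.1 hz y
    rwa [Subgroup.upperCentralSeries_one] at this
  let φ : G →* Subgroup.center G :=
    { toFun := fun y => ⟨z * y * z⁻¹ * y⁻¹, hz' y⟩
      map_one' := Subtype.ext (by simp)
      map_mul' := fun a b => Subtype.ext (by
        have := Subgroup.mem_center_iff.1 (hz' b) a
        change z * (a * b) * z⁻¹ * (a * b)⁻¹ = z * a * z⁻¹ * a⁻¹ * (z * b * z⁻¹ * b⁻¹)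
        calc z * (a * b) * z⁻¹ * (a * b)⁻¹
            = z * a * z⁻¹ * a⁻¹ * (a * (z * b * z⁻¹ * b⁻¹)) * a⁻¹ := by group
          _ = z * a * z⁻¹ * a⁻¹ * ((z * b * z⁻¹ * b⁻¹) * a) * a⁻¹ := by rw [this]
          _ = _ := by group) }
  have h0 : commutator G ≤ φ.ker := by
    rw [commutator_def, Subgroup.commutator_le]
    intro a _ b _
    rw [MonoidHom.mem_ker, map_commutatorElement, commutatorElement_eq_one_iff_mul_comm]
    exact Subtype.ext (Subgroup.mem_center_iff.1 (φ b).2 _)
  have h1 := h0 hd
  rw [MonoidHom.mem_ker] at h1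
  have h2 : z * d * z⁻¹ * d⁻¹ = 1 := congrArg Subtype.val h1
  calc z * d = (z * d * z⁻¹ * d⁻¹) * (d * z) := by group
    _ = d * z := by rw [h2, one_mul]

/-- A nilpotent group all of whose characteristic abelian subgroups are central has class at most
two. -/
theorem commutator_le_center_of_char {G : Type*} [Group G] [Group.IsNilpotent G]
    (h : ∀ A : Subgroup G, A.Characteristic → (∀ x ∈ A, ∀ y ∈ A, x * y = y * x) →
      A ≤ Subgroup.center G) : commutator G ≤ Subgroup.center G := by
  have h2 : Subgroup.upperCentralSeries G 2 ⊓ commutator G ≤ Subgroup.center G :=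
    h _ inferInstance fun x hx y hy => commute_of_mem_ucsTwo hx.1 hy.2
  have key : ∀ i, ∀ d ∈ commutator G, d ∈ Subgroup.upperCentralSeries G i → d ∈ Subgroup.center G := by
    intro i
    induction i with
    | zero => intro d _ hd; rw [Subgroup.upperCentralSeries_zero, Subgroup.mem_bot] at hd; simp [hd]
    | succ i ih =>
      intro d hd hdi
      apply h2
      refine ⟨Subgroup.mem_upperCentralSeries_succ_iff.2 fun y => ?_, hd⟩
      rw [Subgroup.upperCentralSeries_one]
      refine ih _ ?_ (Subgroup.mem_upperCentralSeries_succ_iff.1 hdi y)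
      rw [commutator_def]
      exact Subgroup.commutator_mem_commutator (Subgroup.mem_top d) (Subgroup.mem_top y)
  obtain ⟨n, hn⟩ := Group.IsNilpotent.nilpotent G
  exact fun d hd => key n d hd (by rw [hn]; trivial)

/-- In a group of symplectic type whose centre has order equal to the exponent, every
characteristic abelian subgroup is central, so the group has class at most two. -/
theorem commutator_le_center_of_symplecticType [Finite F] {r : ℕ} {R : Subgroup (GL ι F)}
    (hR : IsSymplecticTypeGroup r R) (hz : Nat.card (Subgroup.center R) = r * Nat.gcd 2 r) :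
    commutator R ≤ Subgroup.center R := by
  haveI := Fact.mk hR.prime
  haveI : Group.IsNilpotent R := hR.pGroup.isNilpotent
  apply commutator_le_center_of_char
  intro A hA hc
  let B : Subgroup R := A ⊔ Subgroup.center R
  have hB : B.Characteristic := inferInstance
  have hBc : IsMulCommutative B := by
    refine ⟨⟨?_⟩⟩
    rintro ⟨x, hx⟩ ⟨y, hy⟩
    apply Subtype.ext
    change x * y = y * x
    rw [← SetLike.mem_coe, Subgroup.mul_normal] at hx hy
    obtain ⟨a, ha, z, hz, rfl⟩ := hx
    obtain ⟨b, hb, w, hw, rfl⟩ := hy
    have hz' := Subgroup.mem_center_iff.1 hz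
    have hw' := Subgroup.mem_center_iff.1 hw
    change a * z * (b * w) = b * w * (a * z)
    calc a * z * (b * w) = a * (z * b) * w := by group
      _ = a * (b * z) * w := by rw [hz' b]
      _ = (a * b) * (z * w) := by group
      _ = (b * a) * (w * z) := by rw [hc a ha b hb, hw' z]
      _ = b * (a * w) * z := by group
      _ = b * (w * a) * z := by rw [hw' a]
      _ = _ := by group
  haveI := hR.cyclic_of_characteristic B hB hBc
  have h1 : Nat.card B ∣ r * Nat.gcd 2 r := by
    rw [← IsCyclic.exponent_eq_card, ← hR.exponent_eq]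
    exact Monoid.exponent_dvd_of_forall_pow_eq_one fun x =>
      Subtype.ext (Monoid.pow_exponent_eq_one (x : R))
  have h2 : Subgroup.center R = B := by
    apply Subgroup.eq_of_le_of_card_ge le_sup_right
    rw [hz]
    exact Nat.le_of_dvd (by rw [← hz]; exact Nat.card_pos) h1
  rw [h2]
  exact le_sup_left

/-- a group of symplectic type whose centre has order equal to the exponent is abelian modulo its
centre; when it is absolutely irreducible the index of the centre is `n²` -/
theorem card_sq_mul_card_center [Finite F] {r : ℕ} {R : Subgroup (GL ι F)}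
    (hR : IsSymplecticTypeGroup r R) (habs : ActsAbsolutelyIrreducibly (matrixSet R))
    (hz : Nat.card (Subgroup.center R) = r * Nat.gcd 2 r) :
    Fintype.card ι ^ 2 * Nat.card (Subgroup.center R) = Nat.card R ∧
      (∀ x ∈ R, ∀ y ∈ R, x * y * x⁻¹ * y⁻¹ ∈ scalars ι F) := by
  rcases isEmpty_or_nonempty ι with hι | hι
  · exfalso
    haveI : Subsingleton (GL ι F) := ⟨fun a b => Units.ext (Subsingleton.elim _ _)⟩
    have h1 : Nat.card (Subgroup.center R) = 1 := Nat.card_unique
    have h2 := hR.prime.two_le
    have h3 : 0 < Nat.gcd 2 r := Nat.gcd_pos_of_pos_left _ (by norm_num)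
    rw [h1] at hz
    nlinarith
  have hs := grpAlg_eq_top_of_absIrr habs
  have hc : ∀ x ∈ R, ∀ y ∈ R, x * y * x⁻¹ * y⁻¹ ∈ scalars ι F := by
    intro x hx y hy
    have h1 : ⁅(⟨x, hx⟩ : R), ⟨y, hy⟩⁆ ∈ commutator R := by
      rw [commutator_def]
      exact Subgroup.commutator_mem_commutator (Subgroup.mem_top _) (Subgroup.mem_top _)
    have h2 := commutator_le_center_of_symplecticType hR hz h1
    rw [center_eq_of_span hs] at h2
    exact h2
  exact ⟨by rw [card_eq_of_comm_mem hs hc, card_center_eq_of_span hs, mul_comm], hc⟩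

end Cfsg.Agent.H98
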